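/-
Certificate of the double coset enumeration of the Lyons group over 3.McL:2.
Generated by tools/dce.
-/
import Cfsg.Agent.HatA.LyQ
import Cfsg.Agent.HatA.LyL

set_option autoImplicit false
set_option maxRecDepth 200000
set_option Elab.async false
set_option linter.unusedVariables false

namespace CL.HatA.LyD
open CL.PG CL.DCE

noncomputable def ck : List (List ℕ × List ℕ) → Bool := M3.chk3 LyS.ns LyQ.tb 194
noncomputable def rels : List (List ℕ) :=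
  [[0, 16, 1, 5, 3, 5, 3, 8, 11, 12, 9],
  [0, 8, 13, 10, 9, 2, 4, 2, 4, 1, 17],
  [0, 2, 1, 2],
  [0, 4, 1, 4],
  [0, 6, 1, 6],
  [0, 18, 10, 13, 10, 6, 9, 6, 2, 5, 2, 1, 9, 10, 9],
  [0, 8, 11, 8, 1, 3, 4, 3, 7, 8, 7, 11, 12, 11, 19],
  [0, 12, 10, 4, 14, 11, 2, 14, 2, 4, 2, 4, 15, 3, 10, 15, 5, 11, 13, 1, 12, 10, 4, 14, 11, 2, 14, 5, 3, 5, 3, 15, 3, 10, 15, 5, 11, 13],
  [0, 0],
  [0, 3, 5, 9, 6, 13, 11, 7, 5, 3, 0, 3, 5, 9, 6, 13, 11, 7, 5, 3, 0, 3, 5, 9, 6, 13, 11, 7, 5, 3]]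
noncomputable def T0 : Tr :=
  .n (.n (.n (.n (.n (.n (.n (.n (.l ⟨(nat_lit 0), (nat_lit 0), (nat_lit 0), (nat_lit 0)⟩)
 (.l ⟨(nat_lit 0x800009), (nat_lit 0xc0d02c09), (nat_lit 0x1e1b8690b80f1e0862a8aa), (nat_lit 0)⟩))
 (.l ⟨(nat_lit 0x200002), (nat_lit 0x280d00c080340f0440a00c02), (nat_lit 0), (nat_lit 0)⟩))
 (.n (.l ⟨(nat_lit 0x800005), (nat_lit 0x9a0246e19803), (nat_lit 0x40a89d05852), (nat_lit 0)⟩)
 (.l ⟨(nat_lit 0x600007), (nat_lit 0x180c0340203409), (nat_lit 0x1541b090050048523ca02a80100c070180b0240500c011d0892409c), (nat_lit 0)⟩)))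
 (.n (.n (.l ⟨(nat_lit 0x400004), (nat_lit 162959), (nat_lit 0), (nat_lit 0)⟩)
 (.l ⟨(nat_lit 0x800005), (nat_lit 0xd0280700c0d), (nat_lit 0x942703a2241c2049027085), (nat_lit 0)⟩))
 (.n (.l ⟨(nat_lit 0x800009), (nat_lit 0x34180a608406), (nat_lit 0x40a89d058522409026c0100c070180b0240500c01), (nat_lit 0)⟩)
 (.l ⟨(nat_lit 0x800009), (nat_lit 0x1018070100d), (nat_lit 0x102a274161487e2a49d20c0100c070180b0240500c011d88e26081), (nat_lit 0)⟩))))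
 (.n (.n (.n (.n (.l ⟨(nat_lit 0x200002), (nat_lit 4), (nat_lit 0), (nat_lit 0)⟩)
 (.l ⟨(nat_lit 0x800009), (nat_lit 0x402c0303409), (nat_lit 0x40a89d05852214992900100c070180b0240500c011d89d26ca5), (nat_lit 0)⟩))
 (.l ⟨(nat_lit 0x400004), (nat_lit 0x4060280d008040341103402), (nat_lit 0), (nat_lit 0)⟩))
 (.n (.l ⟨(nat_lit 0x800009), (nat_lit 0x1242116c22), (nat_lit 0x732607723c0100c070180b0240500c01), (nat_lit 0)⟩)
 (.l ⟨(nat_lit 0x200009), (nat_lit 0), (nat_lit 13), (nat_lit 0)⟩)))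
 (.n (.n (.l ⟨(nat_lit 0x600006), (nat_lit 0x142308493), (nat_lit 0), (nat_lit 0)⟩)
 (.l ⟨(nat_lit 0x600007), (nat_lit 0x9034080340b), (nat_lit 0x23c25094030c4a821887), (nat_lit 0)⟩))
 (.n (.l ⟨(nat_lit 0x800007), (nat_lit 0x5a27c1d28c15), (nat_lit 0x227c1c27465), (nat_lit 0)⟩)
 (.l ⟨(nat_lit 0x800009), (nat_lit 0xa030040140d), (nat_lit 0x5811432148321e8a420497), (nat_lit 0)⟩)))))
 (.n (.n (.n (.n (.n (.l ⟨(nat_lit 0x800003), (nat_lit 13), (nat_lit 0), (nat_lit 0)⟩)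
 (.l ⟨(nat_lit 0x800009), (nat_lit 0x80240403409), (nat_lit 0x620881d0dc531d07529877), (nat_lit 0)⟩))
 (.l ⟨(nat_lit 0x800003), (nat_lit 13), (nat_lit 0), (nat_lit 0)⟩))
 (.n (.l ⟨(nat_lit 0x800009), (nat_lit 0x102117013), (nat_lit 0x73214782100100c070180b0240500c01), (nat_lit 0)⟩)
 (.l ⟨(nat_lit 0x400007), (nat_lit 0x40c0340603409), (nat_lit 0x21264190e0231d07d260a9), (nat_lit 0)⟩)))
 (.n (.n (.l ⟨(nat_lit 0x600006), (nat_lit 0x314404), (nat_lit 0), (nat_lit 0)⟩)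
 (.l ⟨(nat_lit 0x600006), (nat_lit 0x201c0c00c0602402), (nat_lit 0), (nat_lit 0)⟩))
 (.n (.l ⟨(nat_lit 0x800009), (nat_lit 0x2c004a72a829), (nat_lit 0x14090370882f), (nat_lit 0)⟩)
 (.l ⟨(nat_lit 0x800009), (nat_lit 0x3020020340c), (nat_lit 0xb00129caa0a49528877), (nat_lit 0)⟩))))
 (.n (.n (.n (.n (.l ⟨(nat_lit 0x200002), (nat_lit 73), (nat_lit 0), (nat_lit 0)⟩)
 (.l ⟨(nat_lit 0x600009), (nat_lit 0x24070080d00809), (nat_lit 0x111bc38040011cc75200aa), (nat_lit 0)⟩))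
 (.l ⟨(nat_lit 0x800005), (nat_lit 0x200203407), (nat_lit 0x102a2741614884230a8), (nat_lit 0)⟩))
 (.n (.l ⟨(nat_lit 0x800009), (nat_lit 0x20789e06453), (nat_lit 0x10680c0e03a), (nat_lit 0)⟩)
 (.l ⟨(nat_lit 0x800009), (nat_lit 0x110100b00809), (nat_lit 0x1cc851e0840040301c0602c09014030049028083), (nat_lit 0)⟩)))
 (.n (.n (.l ⟨(nat_lit 0x600007), (nat_lit 0x11904d0c028), (nat_lit 0x782a88325c0100c070180b0240500c01), (nat_lit 0)⟩)
 (.l ⟨(nat_lit 0x800007), (nat_lit 0x110180b0080d), (nat_lit 0x89f0709d1947c29ca4), (nat_lit 0)⟩))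
 (.n (.l ⟨(nat_lit 0x600007), (nat_lit 0x64044631940a), (nat_lit 0x1541b090050048523ca02a80100c070180b0240500c01), (nat_lit 0)⟩)
 (.l ⟨(nat_lit 0x800009), (nat_lit 0x402c090180d), (nat_lit 0x50240dc220bca22507e), (nat_lit 0)⟩))))))
 (.n (.n (.n (.n (.n (.n (.l ⟨(nat_lit 0x400003), (nat_lit 8), (nat_lit 0), (nat_lit 0)⟩)
 (.l ⟨(nat_lit 0x800009), (nat_lit 0x440b00809), (nat_lit 0x1d08028c860040301c0602c09014030049028083), (nat_lit 0)⟩))
 (.l ⟨(nat_lit 3), (nat_lit 0), (nat_lit 0), (nat_lit 0)⟩))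
 (.n (.l ⟨(nat_lit 0x800007), (nat_lit 0x5506c2401401), (nat_lit 0x18090882380a), (nat_lit 0)⟩)
 (.l ⟨(nat_lit 0x800007), (nat_lit 0x340301c0103407), (nat_lit 0x2f27460014381ec792a889), (nat_lit 0)⟩)))
 (.n (.n (.l ⟨(nat_lit 0x400004), (nat_lit 0x889609009), (nat_lit 0), (nat_lit 0)⟩)
 (.l ⟨(nat_lit 0x600006), (nat_lit 0x3014070100a01411), (nat_lit 0), (nat_lit 0)⟩))
 (.n (.l ⟨(nat_lit 0x800009), (nat_lit 0x620881d0dc53), (nat_lit 0x200b4a30201b), (nat_lit 0)⟩)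
 (.l ⟨(nat_lit 0x800009), (nat_lit 0x300a0180d), (nat_lit 0x802d28c0806c9229c8c), (nat_lit 0)⟩))))
 (.n (.n (.n (.n (.l ⟨(nat_lit 0x200002), (nat_lit 71), (nat_lit 0), (nat_lit 0)⟩)
 (.l ⟨(nat_lit 0x800009), (nat_lit 0x80040a0340b), (nat_lit 0x732607723c0100c070180b0240500c011cc931f09e), (nat_lit 0)⟩))
 (.l ⟨(nat_lit 0x200005), (nat_lit 0), (nat_lit 8), (nat_lit 0)⟩))
 (.n (.l ⟨(nat_lit 0x800009), (nat_lit 0x11242116c22), (nat_lit 0x742809c2400100c070180b0240500c01), (nat_lit 0)⟩)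
 (.l ⟨(nat_lit 0x400009), (nat_lit 0xa018020340a), (nat_lit 0x9a0246e198032047827c95), (nat_lit 0)⟩)))
 (.n (.n (.l ⟨(nat_lit 0x600006), (nat_lit 0x8c2f0ac0f), (nat_lit 0), (nat_lit 0)⟩)
 (.l ⟨(nat_lit 0x600007), (nat_lit 0x100d0300303407), (nat_lit 0x782a88325c0100c070180b0240500c011d4952a492), (nat_lit 0)⟩))
 (.n (.l ⟨(nat_lit 0x600007), (nat_lit 0x9f0cc232606b), (nat_lit 0x8f0942500c31), (nat_lit 0)⟩)
 (.l ⟨(nat_lit 0x400009), (nat_lit 0x702c090080d), (nat_lit 0xc0746f0b05b1d07520495), (nat_lit 0)⟩)))))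
 (.n (.n (.n (.n (.n (.l ⟨(nat_lit 0x200002), (nat_lit 15), (nat_lit 0), (nat_lit 0)⟩)
 (.l ⟨(nat_lit 0x800009), (nat_lit 0xc004060340c), (nat_lit 0x1242116c221e493210a1), (nat_lit 0)⟩))
 (.l ⟨(nat_lit 0x200003), (nat_lit 0x110100b00809), (nat_lit 0x40845c04c9028083), (nat_lit 0)⟩))
 (.n (.l ⟨(nat_lit 0x800009), (nat_lit 0x2117013), (nat_lit 0x7625c7f2a80100c070180b0240500c01), (nat_lit 0)⟩)
 (.l ⟨(nat_lit 0x800008), (nat_lit 0x8090140d040110340602801), (nat_lit 0), (nat_lit 0)⟩)))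
 (.n (.n (.l ⟨(nat_lit 0x600006), (nat_lit 0x516c4c), (nat_lit 0), (nat_lit 0)⟩)
 (.l ⟨(nat_lit 0x400007), (nat_lit 0x2c0900807), (nat_lit 0x510b81c170742107f), (nat_lit 0)⟩))
 (.n (.l ⟨(nat_lit 0x600005), (nat_lit 0x18074720b82b), (nat_lit 0x5620c1f2940d), (nat_lit 0)⟩)
 (.l ⟨(nat_lit 0x600009), (nat_lit 0xc0180d0040d), (nat_lit 0x5a27c1d28c151d09e1f4a5), (nat_lit 0)⟩))))
 (.n (.n (.n (.l ⟨(nat_lit 0x400004), (nat_lit 0x80f1505b), (nat_lit 0), (nat_lit 0)⟩)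
 (.l ⟨(nat_lit 0x400005), (nat_lit 0x9020040340a), (nat_lit 0x9c24c1b088021cc751e090), (nat_lit 0)⟩))
 (.n (.l ⟨(nat_lit 0x800009), (nat_lit 0x631941118c0a), (nat_lit 0x40a89d05852214992900100c070180b0240500c01), (nat_lit 0)⟩)
 (.l ⟨(nat_lit 0x800009), (nat_lit 0x2c090200d), (nat_lit 0x1d19485238071d49e26491), (nat_lit 0)⟩)))
 (.n (.n (.l ⟨(nat_lit 0x800008), (nat_lit 0x3d1a06b), (nat_lit 0), (nat_lit 0)⟩)
 (.l ⟨(nat_lit 0x800007), (nat_lit 0xb01c050340a), (nat_lit 0x218772680100c070180b0240500c011dca323486), (nat_lit 0)⟩))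
 (.n (.l ⟨(nat_lit 0x600005), (nat_lit 0x21264190e023), (nat_lit 0x500a47221832), (nat_lit 0)⟩)
 (.l ⟨(nat_lit 0x800009), (nat_lit 0xb01c050340a), (nat_lit 0x741e09d1e80100c070180b0240500c011dca323486), (nat_lit 0)⟩)))))))
 (.n (.n (.n (.n (.n (.n (.n (.l ⟨(nat_lit 0x200001), (nat_lit 0), (nat_lit 0), (nat_lit 0)⟩)
 (.l ⟨(nat_lit 0x600009), (nat_lit 0x20300a0180d), (nat_lit 0x2a8610606303ca7200a3), (nat_lit 0)⟩))
 (.l ⟨(nat_lit 0x200002), (nat_lit 0x1034030200c0440d00c0d03005), (nat_lit 0), (nat_lit 0)⟩))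
 (.n (.l ⟨(nat_lit 0x800008), (nat_lit 0x2949f0bc51), (nat_lit 0), (nat_lit 0)⟩)
 (.l ⟨(nat_lit 0x800007), (nat_lit 0x340c0100103407), (nat_lit 0x2254280d8a12009e204a9), (nat_lit 0)⟩)))
 (.n (.n (.l ⟨(nat_lit 0x400003), (nat_lit 0x1b16824), (nat_lit 0x851ec0100c070180b0240500c01), (nat_lit 0)⟩)
 (.l ⟨(nat_lit 0x600005), (nat_lit 0x440d0080c0340a), (nat_lit 0x500a472218321f4992a4a8), (nat_lit 0)⟩))
 (.n (.l ⟨(nat_lit 0x400009), (nat_lit 0x942703a2241c), (nat_lit 0xc0746f0b05b), (nat_lit 0)⟩)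
 (.l ⟨(nat_lit 0x600009), (nat_lit 0x14090080d00809), (nat_lit 0xa80b45018c331e07e29494), (nat_lit 0)⟩))))
 (.n (.n (.n (.n (.l ⟨(nat_lit 0x200002), (nat_lit 6), (nat_lit 0), (nat_lit 0)⟩)
 (.l ⟨(nat_lit 0x800009), (nat_lit 0x440b01009), (nat_lit 0x1d8971fcaa0040301c0602c0901403004771e485), (nat_lit 0)⟩))
 (.l ⟨(nat_lit 0x400004), (nat_lit 0x100d004030440d02c08), (nat_lit 0), (nat_lit 0)⟩))
 (.n (.l ⟨(nat_lit 0x800009), (nat_lit 0x111bc3804001), (nat_lit 0x741e09d1e80100c070180b0240500c01), (nat_lit 0)⟩)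
 (.l ⟨(nat_lit 0x400009), (nat_lit 0x7024010340b), (nat_lit 0x1904d0c0281fc9c2688a), (nat_lit 0)⟩)))
 (.n (.n (.l ⟨(nat_lit 0x600005), (nat_lit 0x1442e0705c), (nat_lit 0x370d006), (nat_lit 0)⟩)
 (.l ⟨(nat_lit 0x600007), (nat_lit 0x8018020340a), (nat_lit 0x9f0cc232606b1d0852509d), (nat_lit 0)⟩))
 (.n (.l ⟨(nat_lit 0x800007), (nat_lit 0xaa1841818c0f), (nat_lit 0x2254280d8a1), (nat_lit 0)⟩)
 (.l ⟨(nat_lit 0x800009), (nat_lit 0x102c0d0080b), (nat_lit 0x1c16c880608e214aa), (nat_lit 0)⟩)))))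
 (.n (.n (.n (.n (.n (.l ⟨(nat_lit 0x200002), (nat_lit 61), (nat_lit 0), (nat_lit 0)⟩)
 (.l ⟨(nat_lit 0x600009), (nat_lit 0x30050200403407), (nat_lit 0x600833024021cc7c22ca6), (nat_lit 0)⟩))
 (.l ⟨(nat_lit 0x600003), (nat_lit 9223), (nat_lit 0), (nat_lit 0)⟩))
 (.n (.l ⟨(nat_lit 0x800009), (nat_lit 0x705b22018), (nat_lit 0x74200a32180100c070180b0240500c01), (nat_lit 0)⟩)
 (.l ⟨(nat_lit 0x800008), (nat_lit 0x4060440d0240d0100701403), (nat_lit 0), (nat_lit 0)⟩)))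
 (.n (.n (.l ⟨(nat_lit 0x600006), (nat_lit 0x31504b), (nat_lit 0), (nat_lit 0)⟩)
 (.l ⟨(nat_lit 0x200007), (nat_lit 0), (nat_lit 9223), (nat_lit 0)⟩))
 (.n (.l ⟨(nat_lit 0x800009), (nat_lit 0xa11940a1240b), (nat_lit 0x60242208e028731e09a1f40100c070180b0240500c01), (nat_lit 0)⟩)
 (.l ⟨(nat_lit 0x800009), (nat_lit 0xb0040a0200d), (nat_lit 0x20789e064531cc972189d), (nat_lit 0)⟩))))
 (.n (.n (.n (.n (.l ⟨(nat_lit 0x200003), (nat_lit 0x102117013), (nat_lit 0x102117013), (nat_lit 0)⟩)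
 (.l ⟨(nat_lit 0x800009), (nat_lit 0x8028010340b), (nat_lit 0x1c0704b2a8aa), (nat_lit 0)⟩))
 (.l ⟨(nat_lit 0x800005), (nat_lit 0x302c0d0080b), (nat_lit 0x11249b0c0281cca12847f), (nat_lit 0)⟩))
 (.n (.l ⟨(nat_lit 0x800009), (nat_lit 0x1b41415ca1), (nat_lit 0x1e1b8690b80f), (nat_lit 0)⟩)
 (.l ⟨(nat_lit 0x800009), (nat_lit 0x40300803407), (nat_lit 0x40a89d058522409026c0100c070180b0240500c011d07b21ca8), (nat_lit 0)⟩)))
 (.n (.n (.l ⟨(nat_lit 0x800008), (nat_lit 0x44911ca1), (nat_lit 0), (nat_lit 0)⟩)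
 (.l ⟨(nat_lit 0x800007), (nat_lit 0x9020040340a), (nat_lit 0x18090882380a1cc751e090), (nat_lit 0)⟩))
 (.n (.l ⟨(nat_lit 0x800007), (nat_lit 0x910cc1e08c65), (nat_lit 0x2f2746001438), (nat_lit 0)⟩)
 (.l ⟨(nat_lit 0x800009), (nat_lit 0x28030340603408), (nat_lit 0x1b41415ca11cc7628083), (nat_lit 0)⟩))))))
 (.n (.n (.n (.n (.n (.n (.l ⟨(nat_lit 0x600003), (nat_lit 9223), (nat_lit 0), (nat_lit 0)⟩)
 (.l ⟨(nat_lit 0x600009), (nat_lit 0x6028040340a), (nat_lit 0x5506c24014012008f284a3), (nat_lit 0)⟩))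
 (.l ⟨(nat_lit 0x400003), (nat_lit 8), (nat_lit 0), (nat_lit 0)⟩))
 (.n (.l ⟨(nat_lit 0x800007), (nat_lit 0x111bc3804001), (nat_lit 0x218772680100c070180b0240500c01), (nat_lit 0)⟩)
 (.l ⟨(nat_lit 0x400007), (nat_lit 0x300d0440503408), (nat_lit 0x601d1c82e0aca624ca2), (nat_lit 0)⟩)))
 (.n (.n (.l ⟨(nat_lit 0x400005), (nat_lit 0x5506c2401401), (nat_lit 0x9c24c1b08802), (nat_lit 0)⟩)
 (.l ⟨(nat_lit 0x600006), (nat_lit 0x30180b02003), (nat_lit 0), (nat_lit 0)⟩))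
 (.n (.l ⟨(nat_lit 0x800009), (nat_lit 0xa0050641600a), (nat_lit 0x581143214832), (nat_lit 0)⟩)
 (.l ⟨(nat_lit 0x800009), (nat_lit 0x110280d0440b), (nat_lit 0x60242208e028731e09a1f40100c070180b0240500c011e48e2a4a8), (nat_lit 0)⟩))))
 (.n (.n (.n (.n (.l ⟨(nat_lit 0x200002), (nat_lit 69), (nat_lit 0), (nat_lit 0)⟩)
 (.l ⟨(nat_lit 0x600009), (nat_lit 0x100d0240301c0d), (nat_lit 0x910cc1e08c652109f22477), (nat_lit 0)⟩))
 (.l ⟨(nat_lit 0x600005), (nat_lit 0x440c00809), (nat_lit 0xdc34018771fc85), (nat_lit 0)⟩))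
 (.n (.l ⟨(nat_lit 0x800009), (nat_lit 0x330a0632543e), (nat_lit 0x1d1948523807), (nat_lit 0)⟩)
 (.l ⟨(nat_lit 0x800009), (nat_lit 0x34110340b0100d), (nat_lit 0xa0050641600a1dc7c23c8f), (nat_lit 0)⟩)))
 (.n (.n (.l ⟨(nat_lit 0x600007), (nat_lit 0x705b22018), (nat_lit 0x1d8852200100c070180b0240500c01), (nat_lit 0)⟩)
 (.l ⟨(nat_lit 0x800007), (nat_lit 0x110340903409), (nat_lit 0x258341748f0a0a5224a7), (nat_lit 0)⟩))
 (.n (.l ⟨(nat_lit 0x800007), (nat_lit 0xa80b45018c33), (nat_lit 0x381b43518417), (nat_lit 0)⟩)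
 (.l ⟨(nat_lit 0x800009), (nat_lit 0x901c010340b), (nat_lit 0x21170131d4772109e), (nat_lit 0)⟩)))))
 (.n (.n (.n (.n (.n (.l ⟨(nat_lit 0x200002), (nat_lit 2), (nat_lit 0), (nat_lit 0)⟩)
 (.l ⟨(nat_lit 0x800009), (nat_lit 0x70340b0200d), (nat_lit 0x742809c2400100c070180b0240500c012707b200a7), (nat_lit 0)⟩))
 (.l ⟨(nat_lit 0x400004), (nat_lit 0x40180702c0903c1101001), (nat_lit 0), (nat_lit 0)⟩))
 (.n (.l ⟨(nat_lit 0x800009), (nat_lit 0x1c0704b), (nat_lit 0x1d0942340100c070180b0240500c01), (nat_lit 0)⟩)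
 (.l ⟨(nat_lit 0x800008), (nat_lit 0x503404014020440d0040602c03), (nat_lit 0), (nat_lit 0)⟩)))
 (.n (.n (.l ⟨(nat_lit 0x600003), (nat_lit 0x5008c1a), (nat_lit 0x73238892880100c070180b0240500c01), (nat_lit 0)⟩)
 (.l ⟨(nat_lit 0x600007), (nat_lit 0x440b00809), (nat_lit 0x76214880040301c0602c09014030049028083), (nat_lit 0)⟩))
 (.n (.l ⟨(nat_lit 0x800007), (nat_lit 0x60083302402), (nat_lit 0x960d05d23c28), (nat_lit 0)⟩)
 (.l ⟨(nat_lit 0x800009), (nat_lit 0x200d0080803407), (nat_lit 0x10680c0e03a1d09a290aa), (nat_lit 0)⟩))))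
 (.n (.n (.n (.l ⟨(nat_lit 0x400004), (nat_lit 138), (nat_lit 0), (nat_lit 0)⟩)
 (.l ⟨(nat_lit 0x600005), (nat_lit 0x1c0d00c0203408), (nat_lit 0x5620c1f2940d1d09d2548e), (nat_lit 0)⟩))
 (.n (.l ⟨(nat_lit 0x800009), (nat_lit 0xa7084241b402), (nat_lit 0x102a274161487e2a49d20c0100c070180b0240500c01), (nat_lit 0)⟩)
 (.l ⟨(nat_lit 0x800009), (nat_lit 0x30020340c), (nat_lit 0x330a0632543e1d09626099), (nat_lit 0)⟩)))
 (.n (.n (.l ⟨(nat_lit 0x800005), (nat_lit 0x1904d0c028), (nat_lit 0x11249b0c028), (nat_lit 0)⟩)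
 (.l ⟨(nat_lit 0x800007), (nat_lit 0x2c0d0180a00c0d), (nat_lit 0x381b435184171e0a628c95), (nat_lit 0)⟩))
 (.n (.l ⟨(nat_lit 0x200002), (nat_lit 0x90080d0180a0440d010050340c), (nat_lit 0), (nat_lit 0)⟩)
 (.l ⟨(nat_lit 0x800009), (nat_lit 0xb0100900807), (nat_lit 0x742508d0040301c0602c09014030047b1e877), (nat_lit 0)⟩)))))))
noncomputable def T : Tr :=
  T0
noncomputable def C : Cf :=
  ⟨false, [], [], 58, 114, 56,
  [(false, [], []),
  (false, [], [[], []]),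
  (true, [], [[]]),
  (true, [0, 2, 4, 8, 10, 5, 6, 2, 0], [[0, 2, 4, 8, 10, 5, 6, 2, 0], [0, 2, 4, 8, 10, 5, 6, 2, 0]])],
  T, ck⟩
noncomputable def R0 : List (List ℕ) :=
  [[0],
  [],
  [],
  [],
  [],
  [(nat_lit 1), (nat_lit 0x3d000007), 0, (nat_lit 5)],
  [(nat_lit 1), (nat_lit 0x3b000007), 0, (nat_lit 5)],
  [(nat_lit 1), (nat_lit 0x40000007), 0, (nat_lit 5)],
  [(nat_lit 1), (nat_lit 0x42000007), 0, (nat_lit 5)],
  [(nat_lit 1), (nat_lit 0x44000007), 0, (nat_lit 5)],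
  [(nat_lit 1), (nat_lit 0x47000007), 0, (nat_lit 5)],
  [(nat_lit 1), (nat_lit 0x45000007), 0, (nat_lit 5)],
  [(nat_lit 1), (nat_lit 0x49000007), 0, (nat_lit 5)],
  [(nat_lit 3), (nat_lit 7), 0, (nat_lit 5)],
  [(nat_lit 1), (nat_lit 0xec401505b00000b), (nat_lit 21), (nat_lit 27), (nat_lit 29), (nat_lit 33), (nat_lit 37), (nat_lit 31), (nat_lit 41), (nat_lit 47), (nat_lit 9)],
  [(nat_lit 1), (nat_lit 0x3b10c4500000b), (nat_lit 21), (nat_lit 39), (nat_lit 43), (nat_lit 9)],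
  [(nat_lit 1), (nat_lit 0xec3f1345900000b), (nat_lit 21), (nat_lit 31), (nat_lit 33), (nat_lit 41), (nat_lit 45), (nat_lit 9)],
  [(nat_lit 3), (nat_lit 0x581a04b000035), (nat_lit 21), (nat_lit 27), (nat_lit 35), (nat_lit 29), (nat_lit 37), (nat_lit 35), (nat_lit 0x13443000009)],
  [(nat_lit 0x731e88524c01), (nat_lit 0xec4b1705a000047), (nat_lit 21), (nat_lit 25), (nat_lit 31), (nat_lit 37), (nat_lit 35), (nat_lit 45), (nat_lit 0xec421345b000009)],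
  [(nat_lit 3), (nat_lit 0x1243f00000b), (nat_lit 21), (nat_lit 31), (nat_lit 39), (nat_lit 35), (nat_lit 49), (nat_lit 31), (nat_lit 49), (nat_lit 39), (nat_lit 0xf06212464000009)],
  [(nat_lit 1), (nat_lit 0x3d1105d00000f), (nat_lit 25), (nat_lit 33), (nat_lit 39), (nat_lit 33), (nat_lit 47), (nat_lit 13)],
  [(nat_lit 1), (nat_lit 0x3d1105400000f), (nat_lit 25), (nat_lit 47), (nat_lit 13)],
  [(nat_lit 1), (nat_lit 0x4316c4c00000f), (nat_lit 27), (nat_lit 29), (nat_lit 39), (nat_lit 29), (nat_lit 41), (nat_lit 13)],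
  [(nat_lit 3), (nat_lit 0x3d16c53000035), (nat_lit 23), (nat_lit 25), (nat_lit 33), (nat_lit 39), (nat_lit 33), (nat_lit 41), (nat_lit 47), (nat_lit 0xec561446a00000d)],
  [(nat_lit 0x731e88c22001), (nat_lit 0xec641606600005f), (nat_lit 23), (nat_lit 25), (nat_lit 33), (nat_lit 39), (nat_lit 33), (nat_lit 41), (nat_lit 47), (nat_lit 0xec421505000000d)],
  [(nat_lit 3), (nat_lit 0x4000000b), (nat_lit 23), (nat_lit 29), (nat_lit 35), (nat_lit 39), (nat_lit 45), (nat_lit 0x1144c00000d)],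
  [(nat_lit 0x370d0061dc7f21401), (nat_lit 0xf03d16840000067), (nat_lit 57), (nat_lit 61), (nat_lit 75), (nat_lit 61), (nat_lit 75), (nat_lit 75), (nat_lit 67), (nat_lit 0x3f11c4d000065)],
  [(nat_lit 3), (nat_lit 0x3f00000f), (nat_lit 23), (nat_lit 29), (nat_lit 35), (nat_lit 39), (nat_lit 45), (nat_lit 0x3e1345000000d)],
  [(nat_lit 3), (nat_lit 0x3f1244000000f), (nat_lit 27), (nat_lit 29), (nat_lit 35), (nat_lit 37), (nat_lit 31), (nat_lit 43), (nat_lit 49), (nat_lit 0x1007212c5f00000d)],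
  [(nat_lit 1), (nat_lit 0xf06b16c72000013), (nat_lit 35), (nat_lit 49), (nat_lit 29), (nat_lit 37), (nat_lit 49), (nat_lit 17)],
  [(nat_lit 1), (nat_lit 0x3d1a06b000013), (nat_lit 29), (nat_lit 39), (nat_lit 31), (nat_lit 49), (nat_lit 37), (nat_lit 41), (nat_lit 47), (nat_lit 17)],
  [(nat_lit 3), (nat_lit 0x1244000000b), (nat_lit 21), (nat_lit 49), (nat_lit 33), (nat_lit 39), (nat_lit 45), (nat_lit 49), (nat_lit 43), (nat_lit 0xec4515c5a000011)],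
  [(nat_lit 3), (nat_lit 0xfc530fc6300004d), (nat_lit 57), (nat_lit 65), (nat_lit 61), (nat_lit 57), (nat_lit 75), (nat_lit 63), (nat_lit 0xf4721244400007d)],
  [(nat_lit 0x40a89d058522108c2a001), (nat_lit 0xfc601c86e000083), (nat_lit 61), (nat_lit 75), (nat_lit 75), (nat_lit 61), (nat_lit 65), (nat_lit 0x4c15070000081)],
  [(nat_lit 3), (nat_lit 0x1243f00000f), (nat_lit 21), (nat_lit 25), (nat_lit 49), (nat_lit 37), (nat_lit 47), (nat_lit 49), (nat_lit 29), (nat_lit 43), (nat_lit 0xec571a460000011)],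
  [(nat_lit 3), (nat_lit 0x3e1245b00000f), (nat_lit 39), (nat_lit 49), (nat_lit 33), (nat_lit 29), (nat_lit 49), (nat_lit 35), (nat_lit 29), (nat_lit 0x4e0fc62000011)],
  [(nat_lit 3), (nat_lit 19), (nat_lit 21), (nat_lit 31), (nat_lit 35), (nat_lit 41), (nat_lit 47), (nat_lit 0xec4d1004c000011)],
  [(nat_lit 3), (nat_lit 0x3f000013), (nat_lit 37), (nat_lit 35), (nat_lit 29), (nat_lit 49), (nat_lit 33), (nat_lit 37), (nat_lit 45), (nat_lit 49), (nat_lit 0xf0481ac4e000011)],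
  [(nat_lit 3), (nat_lit 0x41000013), (nat_lit 21), (nat_lit 43), (nat_lit 49), (nat_lit 31), (nat_lit 33), (nat_lit 39), (nat_lit 49), (nat_lit 0xf85f11c72000011)],
  [(nat_lit 3), (nat_lit 0x43000013), (nat_lit 23), (nat_lit 39), (nat_lit 47), (nat_lit 49), (nat_lit 39), (nat_lit 49), (nat_lit 41), (nat_lit 0x3c17055000011)],
  [(nat_lit 3), (nat_lit 0x12443000013), (nat_lit 21), (nat_lit 35), (nat_lit 31), (nat_lit 49), (nat_lit 31), (nat_lit 35), (nat_lit 37), (nat_lit 41), (nat_lit 0xec600fc57000011)],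
  [(nat_lit 3), (nat_lit 0x3e1245b000013), (nat_lit 29), (nat_lit 33), (nat_lit 49), (nat_lit 35), (nat_lit 37), (nat_lit 49), (nat_lit 33), (nat_lit 0xf04019442000011)],
  [(nat_lit 3), (nat_lit 0x3d1846f000013), (nat_lit 25), (nat_lit 37), (nat_lit 49), (nat_lit 33), (nat_lit 31), (nat_lit 0xf06819058000011)],
  [(nat_lit 3), (nat_lit 0x561c45a00007f), (nat_lit 57), (nat_lit 65), (nat_lit 61), (nat_lit 73), (nat_lit 67), (nat_lit 57), (nat_lit 73), (nat_lit 0xf03f1884800007d)],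
  [(nat_lit 3), (nat_lit 0xf4561c45e00007f), (nat_lit 57), (nat_lit 75), (nat_lit 63), (nat_lit 67), (nat_lit 73), (nat_lit 73), (nat_lit 0xec3f19455000081)],
  [(nat_lit 3), (nat_lit 0x114501b44c00007f), (nat_lit 67), (nat_lit 57), (nat_lit 65), (nat_lit 0x4d19c63000081)],
  [(nat_lit 3), (nat_lit 0x110571a45900007f), (nat_lit 57), (nat_lit 73), (nat_lit 57), (nat_lit 65), (nat_lit 63), (nat_lit 73), (nat_lit 0x4d1846c000081)],
  [(nat_lit 3), (nat_lit 0x541804000007f), (nat_lit 57), (nat_lit 65), (nat_lit 57), (nat_lit 61), (nat_lit 0x118711944b000081)],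
  [(nat_lit 3), (nat_lit 0x661006300007f), (nat_lit 75), (nat_lit 57), (nat_lit 67), (nat_lit 57), (nat_lit 73), (nat_lit 0x5816063000081)],
  [(nat_lit 3), (nat_lit 0xf04414c72000083), (nat_lit 57), (nat_lit 61), (nat_lit 73), (nat_lit 67), (nat_lit 63), (nat_lit 75), (nat_lit 0x401906800004d)],
  [(nat_lit 3), (nat_lit 0xf44e1a845000083), (nat_lit 73), (nat_lit 57), (nat_lit 75), (nat_lit 57), (nat_lit 0x1185f130690000c7)],
  [(nat_lit 3), (nat_lit 0xf4721c845000083), (nat_lit 73), (nat_lit 65), (nat_lit 73), (nat_lit 67), (nat_lit 73), (nat_lit 65), (nat_lit 0xf46b1385f0000c7)],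
  [(nat_lit 3), (nat_lit 0x17c6615c70000083), (nat_lit 57), (nat_lit 67), (nat_lit 73), (nat_lit 65), (nat_lit 63), (nat_lit 75), (nat_lit 0xf4551b8710000c7)],
  [(nat_lit 3), (nat_lit 0x1046d1945500008b), (nat_lit 105), (nat_lit 89), (nat_lit 81), (nat_lit 107), (nat_lit 0xec4018845000089)],
  [(nat_lit 3), (nat_lit 0xf46b1ac560000c7), (nat_lit 119), (nat_lit 133), (nat_lit 121), (nat_lit 133), (nat_lit 119), (nat_lit 133), (nat_lit 117), (nat_lit 0x1245618c6300008b)],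
  [(nat_lit 3), (nat_lit 0xec3d10058000089), (nat_lit 119), (nat_lit 119), (nat_lit 133), (nat_lit 121), (nat_lit 133), (nat_lit 0xf05f1c86e0000d3)],
  [(nat_lit 3), (nat_lit 0x1587012c72000089), (nat_lit 119), (nat_lit 119), (nat_lit 119), (nat_lit 133), (nat_lit 0x124671884d0000cd)],
  [(nat_lit 3), (nat_lit 0xec451746f000089), (nat_lit 121), (nat_lit 133), (nat_lit 117), (nat_lit 117), (nat_lit 133), (nat_lit 117), (nat_lit 133), (nat_lit 0xf46f1b8580000d3)],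
  [(nat_lit 3), (nat_lit 0xf06917869000089), (nat_lit 133), (nat_lit 117), (nat_lit 121), (nat_lit 133), (nat_lit 0x16c72108660000df)],
  [(nat_lit 3), (nat_lit 0x431c85f000089), (nat_lit 133), (nat_lit 119), (nat_lit 133), (nat_lit 119), (nat_lit 121), (nat_lit 0x5f124590000d3)],
  [(nat_lit 3), (nat_lit 0xf86111c66000089), (nat_lit 117), (nat_lit 117), (nat_lit 117), (nat_lit 133), (nat_lit 121), (nat_lit 133), (nat_lit 0x134571a07200008b)],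
  [(nat_lit 3), (nat_lit 0x6316469000089), (nat_lit 119), (nat_lit 133), (nat_lit 117), (nat_lit 121), (nat_lit 133), (nat_lit 121), (nat_lit 0x4d18c5a0000cb)]]
noncomputable def R1 : List (List ℕ) :=
  [[(nat_lit 3), (nat_lit 0x1004116041000081), (nat_lit 133), (nat_lit 117), (nat_lit 117), (nat_lit 121), (nat_lit 133), (nat_lit 121), (nat_lit 0xec65190570000f7)],
  [(nat_lit 0), (nat_lit 21), (nat_lit 33), (nat_lit 47), (nat_lit 49), (nat_lit 37), (nat_lit 41), (nat_lit 49), (nat_lit 29), (nat_lit 35)],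
  [(nat_lit 0), (nat_lit 21), (nat_lit 37), (nat_lit 49), (nat_lit 37), (nat_lit 49), (nat_lit 33), (nat_lit 31), (nat_lit 47)],
  [(nat_lit 0), (nat_lit 27), (nat_lit 29), (nat_lit 39), (nat_lit 49), (nat_lit 33), (nat_lit 31), (nat_lit 45)],
  [(nat_lit 2), (nat_lit 7)],
  [(nat_lit 2), (nat_lit 9)],
  [(nat_lit 2), (nat_lit 17)],
  [(nat_lit 2), (nat_lit 13)],
  [(nat_lit 2), (nat_lit 0x581a04b000035)],
  [(nat_lit 0), (nat_lit 73), (nat_lit 63), (nat_lit 73), (nat_lit 73)],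
  [(nat_lit 0), (nat_lit 57), (nat_lit 73), (nat_lit 63), (nat_lit 65), (nat_lit 73)],
  [(nat_lit 0), (nat_lit 73), (nat_lit 65)],
  [(nat_lit 2), (nat_lit 11)],
  [(nat_lit 2), (nat_lit 0x3f11c4d000065)],
  [(nat_lit 2), (nat_lit 0x4c15070000081)],
  [(nat_lit 2), (nat_lit 0xec691a44700007d)],
  [(nat_lit 2), (nat_lit 0xec3d1005800004d)],
  [(nat_lit 2), (nat_lit 0xf065174560000d9)],
  [(nat_lit 2), (nat_lit 0x124581904d0000c7)],
  [(nat_lit 2), (nat_lit 0x114611c4700000f9)],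
  [(nat_lit 0), (nat_lit 97), (nat_lit 87), (nat_lit 105)],
  [(nat_lit 0), (nat_lit 97), (nat_lit 107), (nat_lit 81), (nat_lit 89), (nat_lit 83)],
  [(nat_lit 0), (nat_lit 107), (nat_lit 89), (nat_lit 81), (nat_lit 107)],
  [(nat_lit 2), (nat_lit 15)],
  [(nat_lit 2), (nat_lit 0x3c13047000067)],
  [(nat_lit 2), (nat_lit 0x581a04b00006d)],
  [(nat_lit 2), (nat_lit 0x701384f0000e9)],
  [(nat_lit 2), (nat_lit 0xf04d170650000eb)],
  [(nat_lit 2), (nat_lit 0xf45d1c45a000071)],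
  [(nat_lit 2), (nat_lit 0x6d1446f0000dd)],
  [(nat_lit 2), (nat_lit 0x441bc6c0000e1)],
  [(nat_lit 2), (nat_lit 0xec3d10058000089)],
  [(nat_lit 2), (nat_lit 0xfc6b1544e00008d)],
  [(nat_lit 2), (nat_lit 0x1006e1ac5d0000ed)],
  [(nat_lit 2), (nat_lit 0xf051160640000f1)],
  [(nat_lit 2), (nat_lit 0x12066124710000e5)],
  [(nat_lit 2), (nat_lit 0x10c411c8510000f5)],
  [(nat_lit 2), (nat_lit 0x6e16c6a0000db)],
  [(nat_lit 2), (nat_lit 0xf045180710000fb)],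
  [(nat_lit 0), (nat_lit 119), (nat_lit 119), (nat_lit 119), (nat_lit 133), (nat_lit 117), (nat_lit 121), (nat_lit 133)],
  [(nat_lit 0), (nat_lit 117), (nat_lit 117), (nat_lit 117), (nat_lit 133)],
  [(nat_lit 0), (nat_lit 117), (nat_lit 117), (nat_lit 133), (nat_lit 119), (nat_lit 133), (nat_lit 117), (nat_lit 133)],
  [(nat_lit 2), (nat_lit 19)],
  [(nat_lit 2), (nat_lit 0x11c641885200007f)],
  [(nat_lit 2), (nat_lit 0x1244019c5d000083)],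
  [(nat_lit 2), (nat_lit 0xfc4415c570000cf)],
  [(nat_lit 2), (nat_lit 0x581a04b000091)],
  [(nat_lit 2), (nat_lit 0xf04313c700000c1)],
  [(nat_lit 2), (nat_lit 0xf466184590000ad)],
  [(nat_lit 2), (nat_lit 0xf05e180610000af)],
  [(nat_lit 2), (nat_lit 0xf856180490000bd)],
  [(nat_lit 2), (nat_lit 0x100461b45c0000ef)],
  [(nat_lit 2), (nat_lit 0x5a1bc540000c9)],
  [(nat_lit 2), (nat_lit 0x104561c4700000d5)],
  [(nat_lit 2), (nat_lit 0x5d1a83f0000d3)],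
  [(nat_lit 2), (nat_lit 0xec5f138650000b3)],
  [(nat_lit 2), (nat_lit 0xf0661146d0000e3)],
  [(nat_lit 2), (nat_lit 0xf0621b0720000b1)],
  [(nat_lit 2), (nat_lit 0x1086c1245f0000cd)],
  [(nat_lit 2), (nat_lit 0x5613472000097)],
  [(nat_lit 2), (nat_lit 0xf03d1245d0000c5)],
  [(nat_lit 2), (nat_lit 0xf43f1306600009b)],
  [(nat_lit 2), (nat_lit 0x6a170460000d1)],
  [(nat_lit 2), (nat_lit 0xec3e1a04b0000b7)],
  [(nat_lit 2), (nat_lit 0xfc6b1544e0000a5)],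
  [(nat_lit 2), (nat_lit 0x431083f00009d)],
  [(nat_lit 2), (nat_lit 0x1004e1c8720000b5)],
  [(nat_lit 2), (nat_lit 0x6f1206b0000e7)],
  [(nat_lit 2), (nat_lit 0x581a04b000095)],
  [(nat_lit 2), (nat_lit 0x120571a46b00008b)],
  [(nat_lit 2), (nat_lit 0xf03d1b83f0000cb)],
  [(nat_lit 2), (nat_lit 0xec4414c6e0000df)],
  [(nat_lit 2), (nat_lit 0x1045b130690000a3)],
  [(nat_lit 2), (nat_lit 0x190431206f0000a9)],
  [(nat_lit 2), (nat_lit 0xf86518c6d0000b9)],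
  [(nat_lit 2), (nat_lit 0x3f1044d000099)],
  [(nat_lit 2), (nat_lit 0xec5b110660000a1)],
  [(nat_lit 2), (nat_lit 0x130671443f0000f7)],
  [(nat_lit 2), (nat_lit 0xec3d1207200008f)],
  [(nat_lit 2), (nat_lit 0x1c87200009f)]]
noncomputable def pr : List (ℕ × ℕ × List ℕ × List ℕ) :=
  [(0, 0, [14], [3, 1, 3, 1, 6, 9, 10, 7]), (1, 0, [6, 11, 8, 7, 0, 2, 0, 2], [15]), (2, 0, [0], [0]), (3, 0, [2], [2]), (4, 0, [4], [4]), (5, 0, [16, 8, 11, 8, 4, 7, 4, 0, 3, 0], [7, 8, 7]), (6, 0, [6, 9, 6], [1, 2, 1, 5, 6, 5, 9, 10, 9, 17]), (7, 0, [10, 8, 2, 12, 9, 0, 12, 0, 2, 0, 2, 13, 1, 8, 13, 3, 9, 11], [10, 8, 2, 12, 9, 0, 12, 3, 1, 3, 1, 13, 1, 8, 13, 3, 9, 11])]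
noncomputable def ex : List (List ℕ) :=
  [[65, 67, 61], [74, 61, 68], [66, 66, 74], [74, 65, 70], [70, 79, 77], [77, 72, 60], [82, 85], [80, 60], [79, 63], [81, 78], [86, 88], [85, 63], [96, 64], [95, 78], [97, 75], [96, 94], [100, 81], [96, 105], [98, 101], [108, 87]]
noncomputable def M : ℕ :=
  (nat_lit 0x1f)
noncomputable def o1 : Cov :=
  ⟨1, [63, 64, 65], [0, 1, 2, 0, 1, 2, 0, 1, 2, 0, 1, 2, 0, 1, 2, 0, 1, 2, 0],
  [132, 138, 134, 140, 136], 15400⟩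
noncomputable def o2 : Cov :=
  ⟨2, [71, 72, 73], [0, 2, 1, 0, 2, 1, 0, 2, 1, 0, 2, 1, 0, 2, 1, 0, 2, 0],
  [148, 152, 158, 150, 156, 162, 154, 160], 534600⟩
noncomputable def o3 : Cov :=
  ⟨3, [82, 83, 84], [0, 2, 1, 0, 2, 1, 0, 2, 1, 0, 2, 1, 0, 2, 1, 0],
  [170, 172, 194, 196, 180, 198, 174, 192, 200, 182, 178, 186, 188, 176, 184, 190], 1871100⟩
noncomputable def o4 : Cov :=
  ⟨4, [101, 102, 103], [0, 1, 2, 0, 2, 1, 2, 0, 2, 1, 0, 2, 1, 0],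
  [208, 254, 266, 238, 218, 250, 216, 260, 280, 226, 274, 256, 272, 264, 212, 262, 252, 242, 246, 210, 282, 276, 230, 232, 222, 268, 236, 244, 224, 214, 240, 248, 228, 258, 278, 220, 234, 270], 7185024⟩
noncomputable def os : List Cov :=
  [o1, o2, o3, o4]

theorem z0 : C.L = mkL C.al C.be rels [(9, 0)] := by decide +kernel
theorem z1 : C.recs R0 62 0 = true := by decide +kernel
theorem z2 : C.recs R1 142 62 = true := by decide +kernel
theorem z3 : (rels.getD 8 []).rotate 0 = 0 :: (sh C.al ++ 0 :: sh C.be) := by decide +kernel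
theorem z4 : pairR ck rels 56 pr 74 58 = true := by decide +kernel
theorem z5 : pairB ck 58 56 ex 114 74 = true := by decide +kernel
theorem z6 : ck [([14], subs [[58], [60], [62], [64], [66], [68], [70], [72]] [0])] = true := by decide +kernel
theorem z7 : lamB CL.HatA.LyL.P CL.HatA.LyL.ns ck 9 58 114 [[58], [60], [62], [64], [66], [68], [70], [72]] [[14], [7, 9, 11, 8, 6], [0], [2], [4], [12, 2, 0, 2, 0, 12, 16], [6, 9, 6], [2, 6, 12, 8, 12, 9, 12, 7, 3]] [[0], [2], [4], [6], [8], [10], [12], [14], [16]] (sg (W (nat_lit 0x30040d0440b0140d004070240302c0d014110040d02407))) = true := by decide +kernel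
theorem z8 : o1.ok C 142 CL.HatA.LyL.P.n CL.HatA.LyL.P.N 18 M CL.HatA.LyL.ns = true := by decide +kernel
theorem z9 : ck [([14], subs [[170], [172], [174]] [2, 0, 2, 0, 2, 0, 2, 0])] = true := by decide +kernel
theorem z10 : ck (zp [] [[170], [172], [174]] (o1.sw C)) = true := by decide +kernel
theorem z11 : o2.ok C 142 CL.HatA.LyL.P.n CL.HatA.LyL.P.N 18 M CL.HatA.LyL.ns = true := by decide +kernel
theorem z12 : ck (zp [] [[176], [178], [180]] (o2.sw C)) = true := by decide +kernel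
theorem z13 : o3.ok C 142 CL.HatA.LyL.P.n CL.HatA.LyL.P.N 18 M CL.HatA.LyL.ns = true := by decide +kernel
theorem z14 : ck (zp [] [[182], [184], [186]] (o3.sw C)) = true := by decide +kernel
theorem z15 : o4.ok C 142 CL.HatA.LyL.P.n CL.HatA.LyL.P.N 18 M CL.HatA.LyL.ns = true := by decide +kernel
theorem z16 : ck (zp [] [[188], [190], [192]] (o4.sw C)) = true := by decide +kernel
theorem z17 : bnd (Nat.beq (C.T.get 1).h 2097153) (bnd (Nat.beq (C.T.get 1).u 0) (tb M 1)) = true := by decide +kernel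
theorem z18 : M = maskC os := by decide +kernel

variable {Γ G X Λ Ω : Type*} [Group Γ] [Group G] [Group Ω] [MulAction Ω X] [MulAction Γ Λ] {ps : List Ω} {φ : Γ →* G} {e : ℕ → X} {eL : ℕ → Λ} {g0 gs : List Γ} {t : G}

theorem up {Y : Type*} [MulAction G Y] {gs : List G} {r : Y → G → Y} {q : Y} (S : Sys C gs t r q) : Upto C gs t r q 142 :=
  (S.recs _ (S.recs _ (Upto.zero _ _ _ _ _)
    z1)
    z2)

theorem L : C.L = mkL C.al C.be rels [(9, 0)] := z0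

theorem inv {gs : List G} (hr : ∀ r ∈ rels, wordG (t :: gs) r = 1) : t⁻¹ = wordG gs C.al * t * wordG gs C.be :=
  inv_of_rel hr _ _ z3

theorem pair {H : Subgroup Γ} (E : Env H g0 gs ck) (hr : ∀ r ∈ rels, wordG (t :: gs.map φ) r = 1) :
    PairTo (gs.map φ) t 58 56 114 :=
  PairTo.defs (E.map φ) (by decide) _ (PairTo.rels (E.map φ) (by decide) hr _ (PairTo.nil _ _ 58 56) (by decide) z4) (by decide)
    z5

theorem lam (c : Ctx CL.HatA.M3.P e ps CL.HatA.LyS.dns CL.HatA.LyS.dD CL.HatA.LyS.dchk)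
    (lb1 : ∀ l m, boundB 97 l = true → LB (subW ps l) m → LB (subW gs l) m)
    (lb3 : ∀ l m w, boundB 97 l = true → LB (subW ps l) m → ck [([14], subs l w)] = true → LB (subW gs l) (m * 3))
    {k : List (List ℕ × List ℕ) → Bool} (cL : Ctx CL.HatA.LyL.P eL g0 CL.HatA.LyL.ns [] k)
    (E : Env (subW g0 [[0], [2], [4], [6], [8], [10], [12], [14], [16]]) g0 gs ck) (hp : PairTo (gs.map φ) t 58 56 114) (hU : UB (subW g0 [[0], [2], [4], [6], [8], [10], [12], [14], [16]]) 5388768000) :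
    Lam φ (subW g0 [[0], [2], [4], [6], [8], [10], [12], [14], [16]]) (gs.map φ) t g0 eL CL.HatA.LyL.P.n CL.HatA.LyL.P.N (2 * 9) CL.HatA.LyL.ns ∧ (subW g0 [[0], [2], [4], [6], [8], [10], [12], [14], [16]]) ⊓ MulAction.stabilizer Γ (eL 0) = subW gs [[58], [60], [62], [64], [66], [68], [70], [72]] ∧
      ∀ i < CL.HatA.LyL.P.n, ∃ h ∈ (subW g0 [[0], [2], [4], [6], [8], [10], [12], [14], [16]]), h • eL 0 = eL i :=
  lam_of cL E hp z7 (lb3 _ _ _ (by decide) (CL.HatA.LyS.dK_lb c) z6) hU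

theorem res (c : Ctx CL.HatA.M3.P e ps CL.HatA.LyS.dns CL.HatA.LyS.dD CL.HatA.LyS.dchk)
    (lb1 : ∀ l m, boundB 97 l = true → LB (subW ps l) m → LB (subW gs l) m)
    (lb3 : ∀ l m w, boundB 97 l = true → LB (subW ps l) m → ck [([14], subs l w)] = true → LB (subW gs l) (m * 3))
    {k : List (List ℕ × List ℕ) → Bool} (cL : Ctx CL.HatA.LyL.P eL g0 CL.HatA.LyL.ns [] k)
    (E : Env (subW g0 [[0], [2], [4], [6], [8], [10], [12], [14], [16]]) g0 gs ck) (hp : PairTo (gs.map φ) t 58 56 114) (hU : UB (subW g0 [[0], [2], [4], [6], [8], [10], [12], [14], [16]]) 5388768000)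
    (hr : ∀ r ∈ rels, wordG (t :: gs.map φ) r = 1) (hg : ∀ K : Subgroup G, (subW g0 [[0], [2], [4], [6], [8], [10], [12], [14], [16]]).map φ ≤ K → t ∈ K → K = ⊤) :
    Res ((subW g0 [[0], [2], [4], [6], [8], [10], [12], [14], [16]]).map φ) [15400, 534600, 1871100, 7185024] :=
  have A := lam c lb1 lb3 cL E hp hU
  have S := sys_coset (C := C) (E.mem_map φ) (inv hr) hp hr L (E.map φ)
  res_of_cov (os := os) A.1 S (up S) z18 z17 hg hU
    (List.forall_mem_cons.2 ⟨Cov.lb A.1 E z8 z10 (lb3 _ _ _ (by decide) (CL.HatA.LyS.dS1_lb c) z9) (by decide),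
    List.forall_mem_cons.2 ⟨Cov.lb A.1 E z11 z12 (lb1 _ _ (by decide) (CL.HatA.LyS.dS2_lb c)) (by decide),
    List.forall_mem_cons.2 ⟨Cov.lb A.1 E z13 z14 (lb1 _ _ (by decide) (CL.HatA.LyS.dS3_lb c)) (by decide),
    List.forall_mem_cons.2 ⟨Cov.lb A.1 E z15 z16 (lb1 _ _ (by decide) (CL.HatA.LyS.dS4_lb c)) (by decide),
    fun _ h => absurd h List.not_mem_nil⟩⟩⟩⟩)


end CL.HatA.LyD
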